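import Mathlib
import Cfsg.Prelude.Def_KGroupFacts

set_option autoImplicit false

/-! # A cyclic cover of a finitely presented group from a labelled permutation action

Let `G` be a finite perfect group given by a presentation on generators `α`. Suppose every
generator is given a permutation of `Ω × ZMod p` commuting with the shifts of the second
coordinate, so that every relator acts as a shift `tw r`, and the twists `tw r` are not the values
of a homomorphism from the free group to `ZMod p`. Then the subgroup of `G × Perm (Ω × ZMod p)`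
generated by the pairs of the generators is a stem extension of `G` with kernel of order `p`. -/

namespace Cfsg.Agent.Lib.Helper4.PCov

variable (Ω : Type) (p : ℕ)

/-- the shift of the fibres -/
def zs (c : ZMod p) : Equiv.Perm (Ω × ZMod p) :=
  Equiv.prodShear (Equiv.refl _) (fun _ => Equiv.addRight c)

variable {Ω p}

theorem zs_apply (c : ZMod p) (q : Ω × ZMod p) : zs Ω p c q = (q.1, q.2 + c) := rfl

theorem zs_mul (c d : ZMod p) : zs Ω p c * zs Ω p d = zs Ω p (c + d) := by
  ext q
  · rfl
  · show q.2 + d + c = q.2 + (c + d)
    ring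

theorem zs_zero : zs Ω p 0 = 1 := by
  ext q
  · rfl
  · show q.2 + 0 = q.2
    ring

variable (Ω p)

/-- the shifts as a homomorphism -/
def zsHom : Multiplicative (ZMod p) →* Equiv.Perm (Ω × ZMod p) where
  toFun c := zs Ω p (Multiplicative.toAdd c)
  map_one' := zs_zero
  map_mul' a b := by
    show zs Ω p (Multiplicative.toAdd a + Multiplicative.toAdd b) = _
    rw [zs_mul]

variable {Ω p}

theorem zsHom_apply (c : Multiplicative (ZMod p)) :
    zsHom Ω p c = zs Ω p (Multiplicative.toAdd c) := rfl

theorem zs_injective [Nonempty Ω] : Function.Injective (zs Ω p) := by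
  intro c d h
  obtain ⟨i⟩ := ‹Nonempty Ω›
  have := congrArg (fun f : Equiv.Perm (Ω × ZMod p) => (f (i, 0)).2) h
  simpa [zs_apply] using this

theorem zsHom_injective [Nonempty Ω] : Function.Injective (zsHom Ω p) := by
  intro c d h
  exact Multiplicative.toAdd.injective (zs_injective h)

section cover

variable {α : Type} (rels : Set (FreeGroup α)) (X : α → Equiv.Perm (Ω × ZMod p))

/-- the action of the free group -/
def lam : FreeGroup α →* Equiv.Perm (Ω × ZMod p) := FreeGroup.lift X

/-- the pairs -/
def lam' : FreeGroup α →* PresentedGroup rels × Equiv.Perm (Ω × ZMod p) :=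
  (PresentedGroup.mk rels).prod (lam X)

/-- the cover -/
def cov : Subgroup (PresentedGroup rels × Equiv.Perm (Ω × ZMod p)) := (lam' rels X).range

/-- the projection of the cover -/
def sig : cov rels X →* PresentedGroup rels :=
  (MonoidHom.fst _ _).comp (cov rels X).subtype

theorem sig_surjective : Function.Surjective (sig rels X) := by
  intro g
  obtain ⟨f, rfl⟩ := PresentedGroup.mk_surjective rels g
  exact ⟨⟨lam' rels X f, ⟨f, rfl⟩⟩, rfl⟩

variable (hX : ∀ x c, Commute (X x) (zs Ω p c))
include hX

theorem lam_commute (f : FreeGroup α) (c : ZMod p) : Commute (lam X f) (zs Ω p c) := by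
  induction f using FreeGroup.induction_on with
  | C1 => rw [map_one]; exact Commute.one_left _
  | of x => rw [lam, FreeGroup.lift_apply_of]; exact hX x c
  | inv_of x ih => rw [map_inv]; exact ih.inv_left
  | mul a b iha ihb => rw [map_mul]; exact iha.mul_left ihb

variable (tw : FreeGroup α → ZMod p) (hrel : ∀ r ∈ rels, lam X r = zs Ω p (tw r))
include hrel

/-- the elements of the normal closure of the relators act as shifts -/
theorem lam_mem_range (f : FreeGroup α) (hf : f ∈ Subgroup.normalClosure rels) :
    ∃ c, lam X f = zs Ω p c := by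
  let Z : Subgroup (FreeGroup α) :=
    { carrier := {f | ∃ c, lam X f = zs Ω p c}
      one_mem' := ⟨0, by rw [map_one, zs_zero]⟩
      mul_mem' := by
        rintro a b ⟨c, hc⟩ ⟨d, hd⟩
        exact ⟨c + d, by rw [map_mul, hc, hd, zs_mul]⟩
      inv_mem' := by
        rintro a ⟨c, hc⟩
        refine ⟨-c, ?_⟩
        rw [map_inv, hc, inv_eq_iff_mul_eq_one, zs_mul, add_neg_cancel, zs_zero] }
  have hZn : Z.Normal := by
    constructor
    rintro a ⟨c, hc⟩ g
    refine ⟨c, ?_⟩
    rw [map_mul, map_mul, hc, map_inv]
    have := lam_commute X hX g c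
    rw [this.eq, mul_inv_cancel_right]
  have hle : Subgroup.normalClosure rels ≤ Z :=
    Subgroup.normalClosure_le_normal (fun r hr => ⟨tw r, hrel r hr⟩)
  exact hle hf

/-- the kernel of the projection consists of shifts -/
theorem ker_sig (w : cov rels X) (hw : sig rels X w = 1) :
    ∃ c, (w : PresentedGroup rels × Equiv.Perm (Ω × ZMod p)) = (1, zs Ω p c) := by
  obtain ⟨⟨g, y⟩, f, hf⟩ := w
  have h1 : g = 1 := hw
  subst h1
  have hg : PresentedGroup.mk rels f = 1 := congrArg Prod.fst hf
  have hy : lam X f = y := congrArg Prod.snd hf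
  have hmem : f ∈ Subgroup.normalClosure rels := by
    have := (QuotientGroup.eq_one_iff f).mp hg
    exact this
  obtain ⟨c, hc⟩ := lam_mem_range rels X hX tw hrel f hmem
  refine ⟨c, ?_⟩
  show ((1 : PresentedGroup rels), y) = (1, zs Ω p c)
  rw [← hy, hc]

omit hX in
/-- the shifts by the twists belong to the cover -/
theorem shift_mem (r : FreeGroup α) (hr : r ∈ rels) :
    ((1 : PresentedGroup rels), zs Ω p (tw r)) ∈ cov rels X := by
  refine ⟨r, ?_⟩
  show ((PresentedGroup.mk rels r, lam X r) : PresentedGroup rels × _) = _
  rw [hrel r hr, PresentedGroup.one_of_mem hr]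

end cover

end Cfsg.Agent.Lib.Helper4.PCov
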