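import Cfsg.Agent.Lib.Helper4.PCov.Cover

set_option autoImplicit false

/-! # The cover is a stem extension with kernel of order `p` -/

namespace Cfsg.Agent.Lib.Helper4.PCov

variable {Ω : Type} {p : ℕ} {α : Type} (rels : Set (FreeGroup α))
  (X : α → Equiv.Perm (Ω × ZMod p))

/-- the shifts in the ambient group -/
def zsW : Multiplicative (ZMod p) →* PresentedGroup rels × Equiv.Perm (Ω × ZMod p) :=
  (1 : Multiplicative (ZMod p) →* PresentedGroup rels).prod (zsHom Ω p)

theorem zsW_apply (c : Multiplicative (ZMod p)) :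
    zsW (Ω := Ω) rels c = (1, zs Ω p (Multiplicative.toAdd c)) := rfl

variable [hp : Fact p.Prime] [Nonempty Ω]
  (hX : ∀ x c, Commute (X x) (zs Ω p c))
  (tw : FreeGroup α → ZMod p) (hrel : ∀ r ∈ rels, lam X r = zs Ω p (tw r))
  (hns : ¬ ∃ a : α → ZMod p, ∀ r ∈ rels,
    FreeGroup.lift (fun x => Multiplicative.ofAdd (a x)) r = Multiplicative.ofAdd (tw r))
include hX hrel hns

/-- all the shifts belong to the cover -/
theorem zsW_mem (c : Multiplicative (ZMod p)) : zsW (Ω := Ω) rels c ∈ cov rels X := by
  have hne : ∃ r ∈ rels, tw r ≠ 0 := by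
    by_contra hcon
    push_neg at hcon
    apply hns
    refine ⟨fun _ => 0, fun r hr => ?_⟩
    rw [hcon r hr]
    have : (FreeGroup.lift fun _ : α => Multiplicative.ofAdd (0 : ZMod p)) =
        (1 : FreeGroup α →* Multiplicative (ZMod p)) := by
      ext x
      simp
    rw [this]
    rfl
  obtain ⟨r, hr, hr0⟩ := hne
  have hcard : Nat.card (Multiplicative (ZMod p)) = p := by
    rw [Nat.card_eq_fintype_card, Fintype.card_multiplicative]
    exact ZMod.card p
  have hpc : Fact (Nat.card (Multiplicative (ZMod p))).Prime := ⟨by rw [hcard]; exact hp.out⟩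
  have htop : (cov rels X).comap (zsW (Ω := Ω) rels) = ⊤ := by
    rcases Subgroup.eq_bot_or_eq_top_of_prime_card ((cov rels X).comap (zsW (Ω := Ω) rels))
      with h | h
    · exfalso
      have hm : Multiplicative.ofAdd (tw r) ∈ (cov rels X).comap (zsW (Ω := Ω) rels) := by
        rw [Subgroup.mem_comap, zsW_apply]
        exact shift_mem rels X tw hrel r hr
      rw [h, Subgroup.mem_bot] at hm
      exact hr0 (Multiplicative.ofAdd.injective hm)
    · exact h
  have : c ∈ (cov rels X).comap (zsW (Ω := Ω) rels) := by rw [htop]; exact Subgroup.mem_top _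
  exact this

/-- the shifts as elements of the kernel of the projection -/
def theta : Multiplicative (ZMod p) →* (sig rels X).ker where
  toFun c := ⟨⟨zsW (Ω := Ω) rels c, zsW_mem rels X hX tw hrel hns c⟩, by
    rw [MonoidHom.mem_ker]; rfl⟩
  map_one' := by
    apply Subtype.ext; apply Subtype.ext
    exact map_one (zsW (Ω := Ω) rels)
  map_mul' a b := by
    apply Subtype.ext; apply Subtype.ext
    exact map_mul (zsW (Ω := Ω) rels) a b

theorem theta_bijective : Function.Bijective (theta rels X hX tw hrel hns) := by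
  constructor
  · intro c d h
    have h1 : zsW (Ω := Ω) rels c = zsW (Ω := Ω) rels d :=
      congrArg (fun k : (sig rels X).ker =>
        ((k : cov rels X) : PresentedGroup rels × Equiv.Perm (Ω × ZMod p))) h
    have h2 : zsHom Ω p c = zsHom Ω p d := congrArg Prod.snd h1
    exact zsHom_injective h2
  · rintro ⟨w, hw⟩
    obtain ⟨c, hc⟩ := ker_sig rels X hX tw hrel w (MonoidHom.mem_ker.mp hw)
    refine ⟨Multiplicative.ofAdd c, ?_⟩
    apply Subtype.ext; apply Subtype.ext
    rw [hc]
    rfl

/-- the kernel is cyclic of order `p` -/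
noncomputable def kerEquiv : (sig rels X).ker ≃* Multiplicative (ZMod p) :=
  (MulEquiv.ofBijective (theta rels X hX tw hrel hns)
    (theta_bijective rels X hX tw hrel hns)).symm

theorem kerEquiv_theta (c : Multiplicative (ZMod p)) :
    kerEquiv rels X hX tw hrel hns (theta rels X hX tw hrel hns c) = c :=
  (MulEquiv.ofBijective (theta rels X hX tw hrel hns)
    (theta_bijective rels X hX tw hrel hns)).symm_apply_apply c

omit [Nonempty Ω] hns in
theorem ker_central : (sig rels X).ker ≤ Subgroup.center (cov rels X) := by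
  intro w hw
  obtain ⟨c, hc⟩ := ker_sig rels X hX tw hrel w (MonoidHom.mem_ker.mp hw)
  rw [Subgroup.mem_center_iff]
  rintro ⟨⟨g, y⟩, f, hf⟩
  apply Subtype.ext
  show ((g, y) : _ × _) * (w : _ × _) = (w : _ × _) * (g, y)
  rw [hc]
  have hy : lam X f = y := congrArg Prod.snd hf
  have hcm := lam_commute X hX f c
  rw [hy] at hcm
  ext1
  · show g * 1 = 1 * g
    rw [mul_one, one_mul]
  · exact hcm.eq

end Cfsg.Agent.Lib.Helper4.PCov
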