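import Cfsg.Agent.Lib.Helper4.PCov.Cover2

set_option autoImplicit false

/-! # The cover is a stem extension -/

namespace Cfsg.Agent.Lib.Helper4.PCov

variable {Ω : Type} {p : ℕ} {α : Type} (rels : Set (FreeGroup α))
  (X : α → Equiv.Perm (Ω × ZMod p))

/-- the free group mapped into the cover -/
def lamC : FreeGroup α →* cov rels X := (lam' rels X).rangeRestrict

theorem lamC_coe (f : FreeGroup α) :
    ((lamC rels X f : cov rels X) : PresentedGroup rels × Equiv.Perm (Ω × ZMod p)) =
      lam' rels X f := rfl

variable [hp : Fact p.Prime] [Nonempty Ω]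
  (hperf : commutator (PresentedGroup rels) = ⊤)
  (hX : ∀ x c, Commute (X x) (zs Ω p c))
  (tw : FreeGroup α → ZMod p) (hrel : ∀ r ∈ rels, lam X r = zs Ω p (tw r))
  (hns : ¬ ∃ a : α → ZMod p, ∀ r ∈ rels,
    FreeGroup.lift (fun x => Multiplicative.ofAdd (a x)) r = Multiplicative.ofAdd (tw r))
include hperf hX hrel hns

theorem ker_le_commutator : (sig rels X).ker ≤ commutator (cov rels X) := by
  classical
  set σ := sig rels X with hσ
  set C := commutator (cov rels X) with hC
  have hs : Function.Surjective σ := sig_surjective rels X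
  have hmap : Subgroup.map σ C = ⊤ := by
    rw [hC, commutator_def, Subgroup.map_commutator, ← MonoidHom.range_eq_map,
      MonoidHom.range_eq_top.mpr hs, ← commutator_def, hperf]
  -- the kernel has prime order
  have hcard : Nat.card σ.ker = p := by
    rw [Nat.card_congr (kerEquiv rels X hX tw hrel hns).toEquiv, Nat.card_eq_fintype_card,
      Fintype.card_multiplicative]
    exact ZMod.card p
  have hpc : Fact (Nat.card σ.ker).Prime := ⟨by rw [hcard]; exact hp.out⟩
  rcases Subgroup.eq_bot_or_eq_top_of_prime_card (C.subgroupOf σ.ker) with h | h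
  · exfalso
    -- the quotient by the commutator subgroup is isomorphic to the kernel
    let ι : σ.ker →* cov rels X ⧸ C := (QuotientGroup.mk' C).comp σ.ker.subtype
    have hinj : Function.Injective ι := by
      rw [injective_iff_map_eq_one]
      intro k hk
      have hk' : (k : cov rels X) ∈ C := (QuotientGroup.eq_one_iff _).mp hk
      have : k ∈ C.subgroupOf σ.ker := Subgroup.mem_subgroupOf.mpr hk'
      rw [h, Subgroup.mem_bot] at this
      exact this
    have hsur : Function.Surjective ι := by
      intro q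
      obtain ⟨γ, rfl⟩ := QuotientGroup.mk'_surjective C q
      have hγ : σ γ ∈ Subgroup.map σ C := by rw [hmap]; exact Subgroup.mem_top _
      obtain ⟨c, hc, hcγ⟩ := hγ
      have hk : γ * c⁻¹ ∈ σ.ker := by
        rw [MonoidHom.mem_ker, map_mul, map_inv, hcγ, mul_inv_cancel]
      refine ⟨⟨γ * c⁻¹, hk⟩, ?_⟩
      show QuotientGroup.mk' C (γ * c⁻¹) = QuotientGroup.mk' C γ
      have hc1 : QuotientGroup.mk' C c = 1 := (QuotientGroup.eq_one_iff c).mpr hc
      rw [map_mul, map_inv, hc1, inv_one, mul_one]
    let e := MulEquiv.ofBijective ι ⟨hinj, hsur⟩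
    let χ : cov rels X →* σ.ker := e.symm.toMonoidHom.comp (QuotientGroup.mk' C)
    have hχ : ∀ k : σ.ker, χ (k : cov rels X) = k := by
      intro k
      show e.symm (QuotientGroup.mk' C (k : cov rels X)) = k
      rw [MulEquiv.symm_apply_eq]
      rfl
    let Φ : FreeGroup α →* Multiplicative (ZMod p) :=
      ((kerEquiv rels X hX tw hrel hns).toMonoidHom.comp χ).comp (lamC rels X)
    apply hns
    refine ⟨fun x => Multiplicative.toAdd (Φ (FreeGroup.of x)), fun r hr => ?_⟩
    have hΦ : (FreeGroup.lift fun x => Multiplicative.ofAdd (Multiplicative.toAdd (Φ (FreeGroup.of x))))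
        = Φ := by
      ext x
      simp
    rw [hΦ]
    -- the value on a relator
    have hr1 : lamC rels X r =
        ((theta rels X hX tw hrel hns (Multiplicative.ofAdd (tw r)) : σ.ker) : cov rels X) := by
      apply Subtype.ext
      rw [lamC_coe]
      show ((PresentedGroup.mk rels r, lam X r) : PresentedGroup rels × _) = _
      rw [hrel r hr, PresentedGroup.one_of_mem hr]
      rfl
    show (kerEquiv rels X hX tw hrel hns) (χ (lamC rels X r)) = _
    rw [hr1, hχ, kerEquiv_theta]
  · intro k hk
    have : (⟨k, hk⟩ : σ.ker) ∈ C.subgroupOf σ.ker := by rw [h]; exact Subgroup.mem_top _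
    exact Subgroup.mem_subgroupOf.mp this

/-- **the cover**: a stem extension of the presented group with kernel cyclic of order `p` -/
theorem exists_cover [Finite Ω] [Finite (PresentedGroup rels)] :
    ∃ (Γ₀ : Type) (_ : Group Γ₀) (_ : Finite Γ₀) (σ₀ : Γ₀ →* PresentedGroup rels),
      Cfsg.IsStemExtension σ₀ ∧ Nonempty (σ₀.ker ≃* Multiplicative (ZMod p)) := by
  haveI : NeZero p := ⟨hp.out.ne_zero⟩
  exact ⟨cov rels X, inferInstance, inferInstance, sig rels X,
    ⟨sig_surjective rels X, ker_central rels X hX tw hrel,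
      ker_le_commutator rels X hperf hX tw hrel hns⟩,
    ⟨kerEquiv rels X hX tw hrel hns⟩⟩

end Cfsg.Agent.Lib.Helper4.PCov
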