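import Cfsg.Agent.Lib.Helper4.PCov.Cover3

set_option autoImplicit false

/-! # The cover, with the twists given implicitly -/

namespace Cfsg.Agent.Lib.Helper4.PCov

variable {Ω : Type} {p : ℕ} {α : Type} (rels : Set (FreeGroup α))
  (X : α → Equiv.Perm (Ω × ZMod p))

/-- **the cover**: if every relator acts as a shift, and no homomorphism of the free group to
`ZMod p` takes these shifts as values on the relators, then there is a stem extension of the
presented group with kernel cyclic of order `p` -/
theorem exists_cover' [hp : Fact p.Prime] [Nonempty Ω] [Finite Ω] [Finite (PresentedGroup rels)]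
    (hperf : commutator (PresentedGroup rels) = ⊤)
    (hX : ∀ x c, Commute (X x) (zs Ω p c))
    (hrel : ∀ r ∈ rels, ∃ c, lam X r = zs Ω p c)
    (hns : ¬ ∃ a : α → ZMod p, ∀ r ∈ rels, ∀ c, lam X r = zs Ω p c →
      FreeGroup.lift (fun x => Multiplicative.ofAdd (a x)) r = Multiplicative.ofAdd c) :
    ∃ (Γ₀ : Type) (_ : Group Γ₀) (_ : Finite Γ₀) (σ₀ : Γ₀ →* PresentedGroup rels),
      Cfsg.IsStemExtension σ₀ ∧ Nonempty (σ₀.ker ≃* Multiplicative (ZMod p)) := by
  classical
  let tw : FreeGroup α → ZMod p := fun r =>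
    if h : ∃ c, lam X r = zs Ω p c then h.choose else 0
  have htw : ∀ r ∈ rels, lam X r = zs Ω p (tw r) := by
    intro r hr
    have h := hrel r hr
    simp only [tw, dif_pos h]
    exact h.choose_spec
  apply exists_cover rels X hperf hX tw htw
  rintro ⟨a, ha⟩
  apply hns
  refine ⟨a, fun r hr c hc => ?_⟩
  rw [ha r hr]
  have : zs Ω p (tw r) = zs Ω p c := by rw [← htw r hr, hc]
  rw [zs_injective this]

end Cfsg.Agent.Lib.Helper4.PCov
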